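import Mathlib
import Cfsg.Agent.XM.BrChar
import Cfsg.Agent.Block.IBrBlock
import Cfsg.Agent.Block.ModExists
import Cfsg.Agent.Char.Quot
import Cfsg.Agent.Perm.Huppert2

/-! Lifting faithful representations of groups of order prime to the characteristic. -/

set_option autoImplicit false
set_option linter.unusedSectionVars false

namespace Cfsg.Agent.CTL

open Module Cfsg Cfsg.Agent.Char Cfsg.Agent.Block Cfsg.Agent.Perm.SemiLin

variable {p : ℕ} [hp : Fact p.Prime] {G : Type*} [Group G] [Finite G]

theorem exists_char_res {M : Ideal AlgInt} (hM : IsPModular p M) {W : Type*} [AddCommGroup W]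
    [Module (resField M) W] [FiniteDimensional (resField M) W] (ρ : G →* End (resField M) W)
    (hρ : Function.Injective ρ) (hG : ¬ p ∣ Nat.card G) :
    ∃ χ : G → ℂ, IsCharacter G χ ∧ χ 1 = finrank (resField M) W ∧ ∀ g, χ g = χ 1 → g = 1 := by
  classical
  have hχ : IsCharacter G (XM.E3.bc ρ) :=
    isCharacter_sum _ _ fun j _ => (isIrr_brauer_of_not_dvd hM hG j).isCharacter.natCast_smul _
  refine ⟨_, hχ, XM.E3.bc_one ρ hM, fun g hg => ?_⟩
  set K := charKer (XM.E3.bc ρ)
  have := Fintype.ofFinite K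
  let s : Multiset G := (Finset.univ : Finset K).val.map Subtype.val
  have hs : XM.E3.Cl s := by
    intro a ha
    obtain ⟨b, -, rfl⟩ := Multiset.mem_map.1 ha
    have := Multiset.map_univ_val_equiv (Equiv.mulLeft b)
    change _ = (Finset.univ : Finset K).val.map Subtype.val
    rw [← this]
    simp [s]
  have hc : s.card = Nat.card K := by simp [s]
  have h1 := XM.E3.sum_bc ρ hM hs (hc ▸ fun h => hG (h.trans K.card_subgroup_dvd_card))
  have h2 : s.map (XM.E3.bc ρ) = s.map fun _ => (finrank (resField M) W : ℂ) :=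
    Multiset.map_congr rfl fun a ha => by
      obtain ⟨b, -, rfl⟩ := Multiset.mem_map.1 ha
      rw [(mem_charKer_iff hχ).1 b.2, XM.E3.bc_one ρ hM]
  rw [h2, Multiset.map_const', Multiset.sum_replicate, nsmul_eq_mul,
    mul_right_inj' (Nat.cast_ne_zero.2 (hc ▸ Nat.card_pos.ne')), Nat.cast_inj] at h1
  have h3 := Submodule.eq_top_of_finrank_eq h1.symm
  have h4 := hs.mul_sum ρ (g := g) (Multiset.mem_map.2 ⟨⟨g, (mem_charKer_iff hχ).2 hg⟩, by simp, rfl⟩)
  apply hρ
  ext w
  obtain ⟨u, rfl⟩ := LinearMap.range_eq_top.1 h3 w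
  rw [map_one, ← End.mul_apply, h4, End.one_apply]

theorem exists_char {K : Type*} [Field K] [Finite K] [Algebra (ZMod p) K] {W : Type*}
    [AddCommGroup W] [Module K W] [FiniteDimensional K W] (ρ : G →* End K W)
    (hρ : Function.Injective ρ) (hG : ¬ p ∣ Nat.card G) :
    ∃ χ : G → ℂ, IsCharacter G χ ∧ χ 1 = finrank K W ∧ ∀ g, χ g = χ 1 → g = 1 := by
  obtain ⟨M, hM⟩ := exists_isPModular hp.out
  have := charP_resField hM
  let _ := ZMod.algebra (resField M) p
  let φ : K →ₐ[ZMod p] resField M := IsAlgClosed.lift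
  let _ : Algebra K (resField M) := φ.toRingHom.toAlgebra
  have h := exists_char_res hM ((End.baseChangeHom K (resField M) W).toMonoidHom.comp ρ)
    ((LinearMap.baseChangeHom_injective K W (resField M)).comp hρ) hG
  rwa [Module.finrank_baseChange] at h

variable {V : Type*} [AddCommGroup V] [Module (ZMod p) V] [Finite V] {ρ : G →* End (ZMod p) V}

/-- The centralizer of an element commuting with an irreducible element is linear over a larger
field. -/
theorem exists_char_cent [Nontrivial V] (hρ : Function.Injective ρ) (hG : ¬ p ∣ Nat.card G) {n : ℕ}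
    (hn : Nat.card V = p ^ n) {x y : G}
    (hirr : ∀ W : Submodule (ZMod p) V, (∀ v ∈ W, ρ x v ∈ W) → W = ⊥ ∨ W = ⊤) (hxy : y * x = x * y) :
    ∃ d e : ℕ, d * e = n ∧ orderOf y ∣ p ^ d - 1 ∧
      ∃ χ : Subgroup.centralizer ({y} : Set G) → ℂ, IsCharacter _ χ ∧ χ 1 = e ∧
        ∀ g, χ g = χ 1 → g = 1 := by
  obtain ⟨v₀, hv₀⟩ := exists_ne (0 : V)
  obtain ⟨f, -, hf⟩ := exists_field_structure {ρ x} (by simp) (fun W hW => hirr W (hW _ rfl)) hv₀ hn
  have hy := hf (ρ y) (by simp [← map_mul, hxy])
  set b := f (ρ y v₀)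
  have hn0 : n ≠ 0 := by
    rintro rfl
    exact Finite.one_lt_card.ne' hn
  let K := IntermediateField.adjoin (ZMod p) {b}
  let T : G →* End (ZMod p) (GaloisField p n) := (f.conjRingEquiv : _ →* _).comp ρ
  have hT : ∀ g w, T g w = f (ρ g (f.symm w)) := fun _ _ => rfl
  have hlin : ∀ g ∈ Subgroup.centralizer ({y} : Set G), ∀ k ∈ K, ∀ w, T g (k * w) = k * T g w := by
    intro g hg k hk
    induction hk using IntermediateField.adjoin_induction with
    | mem a ha =>
      intro w
      obtain ⟨v, rfl⟩ := f.surjective w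
      rw [Set.mem_singleton_iff.1 ha, ← hy, hT, hT, f.symm_apply_apply, f.symm_apply_apply, ← hy,
        ← End.mul_apply, ← End.mul_apply, ← map_mul, ← map_mul, hg y rfl]
    | algebraMap a => intro w; rw [← Algebra.smul_def, ← Algebra.smul_def, map_smul]
    | add a c _ _ h1 h2 => intro w; rw [add_mul, map_add, h1, h2, add_mul]
    | inv a _ h1 =>
      intro w
      by_cases h : a = 0
      · simp [h]
      · rw [eq_inv_mul_iff_mul_eq₀ h, ← h1, mul_inv_cancel_left₀ h]
    | mul a c _ _ h1 h2 => intro w; rw [mul_assoc, h1, h2, mul_assoc]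
  let σ : Subgroup.centralizer ({y} : Set G) →* End K (GaloisField p n) :=
    { toFun := fun g =>
        { toFun := T g, map_add' := map_add _, map_smul' := fun k w => hlin g g.2 k k.2 w }
      map_one' := by ext w; simp
      map_mul' := fun g h => by ext w; simp }
  have hσ : Function.Injective σ := fun g h e => Subtype.ext (hρ (f.conjRingEquiv.injective
    (LinearMap.ext fun w => LinearMap.congr_fun e w)))
  refine ⟨finrank (ZMod p) K, finrank K (GaloisField p n), ?_, ?_,
    exists_char (p := p) σ hσ fun h => hG (h.trans (Subgroup.card_subgroup_dvd_card _))⟩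
  · rw [Module.finrank_mul_finrank, GaloisField.finrank p hn0]
  · have hb : b ≠ 0 := fun h => hv₀ ((LinearMap.isUnit_iff_ker_eq_bot _).1 (isUnit_rho (ρ := ρ) y) ▸
      (show v₀ ∈ LinearMap.ker (ρ y) from f.injective (h.trans (map_zero f).symm)) :)
    have := Fintype.ofFinite K
    have h1 := congrArg Subtype.val (FiniteField.pow_card_sub_one_eq_one
      (⟨b, IntermediateField.mem_adjoin_simple_self _ b⟩ : K) fun h => hb (congrArg Subtype.val h))
    rw [← Nat.card_eq_fintype_card, Module.natCard_eq_pow_finrank (K := ZMod p), Nat.card_zmod] at h1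
    have h2 : ∀ m v, f (ρ (y ^ m) v) = b ^ m * f v := fun m => by
      induction m with
      | zero => simp
      | succ m ih => intro v; rw [pow_succ, map_mul, End.mul_apply, ih, hy, pow_succ, mul_assoc]
    refine orderOf_dvd_of_pow_eq_one (hρ (LinearMap.ext fun v => f.injective ?_))
    rw [h2, map_one, End.one_apply]
    exact (congrArg (· * f v) h1).trans (one_mul _)

end Cfsg.Agent.CTL
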